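import Groth.Agent.FrobCofinite.Field
import Mathlib

/-! Derivations not vanishing on a given element outside a subfield of exponent one. -/

universe u
set_option autoImplicit false
set_option linter.style.haveILetI false

open Polynomial

noncomputable section

namespace Groth.Agent.DerivNonPow

variable (p : ℕ) [Fact p.Prime] {K : Type u} [Field K] [CharP K p]

theorem exists_maximal (F : Subfield K) {f : K} (hf : f ∉ F) (hF : ∀ x, x ^ p ∈ F) :
    ∃ L : Subfield K, F ≤ L ∧ f ∉ L ∧ ∀ y, y ∈ Subfield.closure ((L : Set K) ∪ {f}) := by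
  obtain ⟨L, hFL, hL⟩ := zorn_le_nonempty₀ {L : Subfield K | F ≤ L ∧ f ∉ L} (fun c hc hchain y hy => by
    refine ⟨sSup c, ⟨(hc hy).1.trans (le_sSup hy), fun h => ?_⟩, fun z hz => le_sSup hz⟩
    obtain ⟨z, hz, hfz⟩ := (Subfield.mem_sSup_of_directedOn ⟨y, hy⟩ hchain.directedOn).mp h
    exact (hc hz).2 hfz) F ⟨le_rfl, hf⟩
  refine ⟨L, hL.prop.1, hL.prop.2, fun y => ?_⟩
  by_cases hy : y ∈ L
  · exact Subfield.subset_closure (Or.inl hy)
  have hfy : f ∈ Subfield.closure ((L : Set K) ∪ {y}) := by
    by_contra h
    exact hy (hL.le_of_ge ⟨hL.prop.1.trans (fun z hz => Subfield.subset_closure (Or.inl hz)), h⟩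
      (fun z hz => Subfield.subset_closure (Or.inl hz)) (Subfield.subset_closure (Or.inr rfl)))
  rw [Set.union_singleton] at hfy ⊢
  exact FrobCofinite.exchange p (L : Set K) (fun z ⟨w, hw⟩ => hw ▸ hL.prop.1 (hF w)) (x := f) (b := y)
    (by rw [Subfield.closure_eq]; exact hL.prop.2) hfy

theorem exists_derivation (F : Subfield K) {f : K} (hf : f ∉ F) (hF : ∀ x, x ^ p ∈ F) :
    ∃ D : K →+ K, (∀ a b, D (a * b) = a * D b + b * D a) ∧ (∀ y ∈ F, D y = 0) ∧ D f = 1 := by
  obtain ⟨L, hFL, hfL, hgen⟩ := exists_maximal p F hf hF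
  have hfp : f ^ p ∈ L := hFL (hF f)
  have hint : IsIntegral L f := FrobCofinite.isIntegral_of_pow_mem p L hfp
  have hmin : minpoly L f = X ^ p - C (⟨f ^ p, hfp⟩ : L) := by
    refine (minpoly.eq_of_irreducible_of_monic (X_pow_sub_C_irreducible_of_prime (Fact.out : p.Prime)
      fun b hb => hfL ?_) (by simp only [map_sub, map_pow, aeval_X, aeval_C]; exact sub_self _)
      (monic_X_pow_sub_C _ (Fact.out : p.Prime).ne_zero)).symm
    have : (b : K) ^ p = f ^ p := congrArg Subtype.val hb
    exact frobenius_inj K p this ▸ b.2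
  have hder : ∀ g : L[X], aeval f g = 0 → aeval f (derivative g) = 0 := by
    intro g hg
    obtain ⟨q, rfl⟩ := minpoly.dvd L f hg
    haveI : CharP L p :=
      (RingHom.charP_iff_charP L.subtype p).mpr inferInstance
    rw [hmin, derivative_mul, derivative_sub, derivative_X_pow, derivative_C, CharP.cast_eq_zero, map_zero,
      zero_mul, sub_zero, zero_mul, zero_add, map_mul, ← hmin, minpoly.aeval, zero_mul]
  have hsurj : ∀ y : K, ∃ g : L[X], aeval f g = y := by
    intro y
    have hy : y ∈ IntermediateField.adjoin L ({f} : Set K) := by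
      have h : Subfield.closure ((L : Set K) ∪ {f}) ≤ (IntermediateField.adjoin L ({f} : Set K)).toSubfield := by
        refine Subfield.closure_le.mpr ?_
        rintro z (hz | rfl)
        · exact (IntermediateField.adjoin L ({f} : Set K)).algebraMap_mem ⟨z, hz⟩
        · exact IntermediateField.mem_adjoin_simple_self L z
      exact h (hgen y)
    rw [← IntermediateField.mem_toSubalgebra,
      IntermediateField.adjoin_simple_toSubalgebra_of_isAlgebraic hint.isAlgebraic] at hy
    rw [Algebra.adjoin_singleton_eq_range_aeval] at hy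
    exact hy
  choose G hG using hsurj
  have hD : ∀ (g : L[X]) (y : K), aeval f g = y → aeval f (derivative (G y)) = aeval f (derivative g) := by
    intro g y hgy
    rw [← sub_eq_zero, ← map_sub, ← derivative_sub]
    exact hder _ (by rw [map_sub, hG, hgy, sub_self])
  let φ : K →+ K :=
    { toFun := fun y => aeval f (derivative (G y))
      map_zero' := by rw [hD 0 0 (map_zero _), derivative_zero, map_zero]
      map_add' := fun a b => by rw [hD (G a + G b) (a + b) (by rw [map_add, hG, hG]), derivative_add, map_add] }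
  refine ⟨φ, fun a b => ?_, fun y hy => ?_, ?_⟩
  · show aeval f (derivative (G (a * b))) = a * aeval f (derivative (G b)) + b * aeval f (derivative (G a))
    rw [hD (G a * G b) (a * b) (by rw [map_mul, hG, hG]), derivative_mul, map_add, map_mul, map_mul, hG, hG]
    ring
  · show aeval f (derivative (G y)) = 0
    rw [hD (C ⟨y, hFL hy⟩) y (by rw [aeval_C]; rfl), derivative_C, map_zero]
  · show aeval f (derivative (G f)) = 1
    rw [hD X f (aeval_X f), derivative_X, map_one]

end Groth.Agent.DerivNonPow
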